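import Groth.Agent.LocCohLib.Cech
import Groth.Prelude.Def_Koszul
import Groth.Agent.S17777

/-! # Iterated cones of multiplication maps -/

set_option autoImplicit false
set_option maxHeartbeats 1000000

universe u

open CategoryTheory CategoryTheory.Limits CochainComplex LocCohLib HomologicalComplex Pretriangulated

noncomputable section

namespace KoszCechLib

variable {R : Type u} [CommRing R]

/-- The iterated cone of the multiplications by the elements of a list. -/
def Kz : List R → DRing.Cx R → DRing.Cx R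
  | [], C => C
  | f :: l, C => mappingCone (f • 𝟙 (Kz l C))

theorem smul_comm_hom {K L : DRing.Cx R} (f : R) (a : K ⟶ L) : (f • 𝟙 K) ≫ a = a ≫ (f • 𝟙 L) := by
  rw [Linear.smul_comp, Category.id_comp, Linear.comp_smul, Category.comp_id]

/-- Functoriality. -/
def kzMap : ∀ (l : List R) {C D : DRing.Cx R} (_ : C ⟶ D), Kz l C ⟶ Kz l D
  | [], _, _, a => a
  | f :: l, _, _, a => mappingCone.map (f • 𝟙 _) (f • 𝟙 _) (kzMap l a) (kzMap l a) (smul_comm_hom f _)

theorem kzMap_id : ∀ (l : List R) (C : DRing.Cx R), kzMap l (𝟙 C) = 𝟙 (Kz l C)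
  | [], C => rfl
  | f :: l, C => by
    have h : ∀ a : Kz l C ⟶ Kz l C, a = 𝟙 _ →
        mappingCone.map (f • 𝟙 _) (f • 𝟙 _) a a (smul_comm_hom f a) = 𝟙 (mappingCone (f • 𝟙 (Kz l C))) := by
      rintro _ rfl
      exact mappingCone.map_id _
    exact h _ (kzMap_id l C)

theorem kzMap_comp : ∀ (l : List R) {C D E : DRing.Cx R} (a : C ⟶ D) (b : D ⟶ E),
    kzMap l (a ≫ b) = kzMap l a ≫ kzMap l b
  | [], _, _, _, _, _ => rfl
  | f :: l, C, D, E, a, b => by
    have h : ∀ c : Kz l C ⟶ Kz l E, c = kzMap l a ≫ kzMap l b →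
        mappingCone.map (f • 𝟙 _) (f • 𝟙 _) c c (smul_comm_hom f c) =
          kzMap (f :: l) a ≫ kzMap (f :: l) b := by
      rintro _ rfl
      exact mappingCone.map_comp _ _ _ _ _ _ _ _ _
    exact h _ (kzMap_comp l a b)

theorem kzMap_zero : ∀ (l : List R) (C D : DRing.Cx R), kzMap l (0 : C ⟶ D) = 0
  | [], C, D => rfl
  | f :: l, C, D => by
    show mappingCone.map _ _ (kzMap l 0) (kzMap l 0) _ = 0
    simp only [kzMap_zero l C D]
    refine HomologicalComplex.hom_ext _ _ fun n => ?_
    simp [mappingCone.ext_from_iff _ (n + 1) n rfl, mappingCone.map]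

theorem isZero_kz_of_iso (l : List R) {C D : DRing.Cx R} (e : C ≅ D) (n : ℤ)
    (h : IsZero ((Kz l C).homology n)) : IsZero ((Kz l D).homology n) :=
  IsZero.of_iso h ((HomologicalComplex.homologyFunctor (ModuleCat.{u} R) (ComplexShape.up ℤ) n).mapIso
    { hom := kzMap l e.hom
      inv := kzMap l e.inv
      hom_inv_id := by rw [← kzMap_comp, e.hom_inv_id, kzMap_id]
      inv_hom_id := by rw [← kzMap_comp, e.inv_hom_id, kzMap_id] }).symm

theorem shortExact_kz {T : ShortComplex (DRing.Cx R)} (hT : T.ShortExact) :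
    ∀ l : List R, ∃ w : kzMap l T.f ≫ kzMap l T.g = 0, (ShortComplex.mk _ _ w).ShortExact
  | [] => ⟨T.zero, hT⟩
  | f :: l => by
    obtain ⟨w, hS⟩ := shortExact_kz hT l
    let S := ShortComplex.mk _ _ w
    let ψ : S ⟶ S :=
      { τ₁ := f • 𝟙 _
        τ₂ := f • 𝟙 _
        τ₃ := f • 𝟙 _
        comm₁₂ := smul_comm_hom f _
        comm₂₃ := smul_comm_hom f _ }
    have w' : kzMap (f :: l) T.f ≫ kzMap (f :: l) T.g = 0 := by
      rw [← kzMap_comp, T.zero, kzMap_zero]
    exact ⟨w', shortExact_cone ψ hS hS w'⟩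

theorem homologyMap_smul_id_apply (f : R) (K : DRing.Cx R) (n : ℤ) (y : K.homology n) :
    (homologyMap (f • 𝟙 K) n).hom y = f • y := by
  rw [Groth.Agent.S17777.homologyMap_smul_id]
  rfl

/-- The connecting map of the cone of `f`, landing in `H^(n+1)`. -/
def dl (f : R) (K : DRing.Cx R) (n : ℤ) : (mappingCone (f • 𝟙 K)).homology n ⟶ K.homology (n + 1) :=
  homologyMap (coneδ (f • 𝟙 K)) n ≫ (shiftHomologyIso K 1 n (n + 1) (by omega)).hom

theorem exists_dl_eq (f : R) (K : DRing.Cx R) (n : ℤ) (x : K.homology (n + 1)) (hx : f • x = 0) :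
    ∃ z, (dl f K n).hom z = x := by
  have hex := exact_of_dist (mappingCone.triangle (f • 𝟙 K)).rotate.rotate
    (rotate_dist _ (rotate_dist _ (cone_dist (f • 𝟙 K)))) n
  let e := shiftHomologyIso K 1 n (n + 1) (by omega)
  have hnat := shiftHomologyIso_naturality (-(f • 𝟙 K)) 1 n (n + 1) (by omega)
  rw [Functor.map_neg] at hnat
  have h0 : (homologyMap (-((f • 𝟙 K)⟦(1 : ℤ)⟧')) n).hom (e.inv.hom x) = 0 := by
    refine e.toLinearEquiv.injective ?_
    refine (ConcreteCategory.congr_hom hnat (e.inv.hom x)).trans ?_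
    refine Eq.trans ?_ (map_zero _).symm
    show (homologyMap (-(f • 𝟙 K)) (n + 1)).hom (e.hom.hom (e.inv.hom x)) = 0
    rw [show e.hom.hom (e.inv.hom x) = x from ConcreteCategory.congr_hom e.inv_hom_id x, homologyMap_neg]
    show -((homologyMap (f • 𝟙 K) (n + 1)).hom x) = 0
    rw [homologyMap_smul_id_apply, hx, neg_zero]
  obtain ⟨z, hz⟩ := (ShortComplex.moduleCat_exact_iff _).1 hex (e.inv.hom x) h0
  refine ⟨z, ?_⟩
  show e.hom.hom ((homologyMap (coneδ (f • 𝟙 K)) n).hom z) = x
  refine (congrArg e.hom.hom hz).trans ?_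
  exact ConcreteCategory.congr_hom e.inv_hom_id x

theorem dl_injective (f : R) (K : DRing.Cx R) (n : ℤ) (h : IsZero (K.homology n)) :
    Function.Injective (dl f K n).hom := by
  have : Mono (homologyMap (coneδ (f • 𝟙 K)) n) := (exact_δ (f • 𝟙 K) n).mono_g (h.eq_of_src _ _)
  exact (shiftHomologyIso K 1 n (n + 1) (by omega)).toLinearEquiv.injective.comp
    ((ModuleCat.mono_iff_injective _).1 this)

theorem isZero_cone (f : R) (K : DRing.Cx R) (n : ℤ) (h : IsZero (K.homology n))
    (h' : IsZero (K.homology (n + 1))) : IsZero ((mappingCone (f • 𝟙 K)).homology n) := by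
  refine (exact_δ (f • 𝟙 K) n).isZero_of_both_zeros (h.eq_of_src _ _) ?_
  exact (IsZero.of_iso h' (shiftHomologyIso K 1 n (n + 1) (by omega))).eq_of_tgt _ _

theorem isZero_cone_of_bijective (f : R) (K : DRing.Cx R) (n : ℤ)
    (hs : Function.Surjective fun y : K.homology n => f • y)
    (hi : Function.Injective fun y : K.homology (n + 1) => f • y) :
    IsZero ((mappingCone (f • 𝟙 K)).homology n) := by
  haveI : Subsingleton ((mappingCone (f • 𝟙 K)).homology n : Type u) := by
    refine subsingleton_of_forall_eq 0 fun z => ?_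
    have hδ : (homologyMap (coneδ (f • 𝟙 K)) n).hom z = 0 := by
      refine (shiftHomologyIso K 1 n (n + 1) (by omega)).toLinearEquiv.injective ?_
      refine Eq.trans ?_ (map_zero _).symm
      refine hi ?_
      show f • (dl f K n).hom z = f • (0 : K.homology (n + 1))
      rw [smul_zero, ← homologyMap_smul_id_apply]
      have hc := comp_zero_of_dist (mappingCone.triangle (f • 𝟙 K)).rotate.rotate
        (rotate_dist _ (rotate_dist _ (cone_dist (f • 𝟙 K)))) n
      have hnat := shiftHomologyIso_naturality (-(f • 𝟙 K)) 1 n (n + 1) (by omega)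
      rw [Functor.map_neg] at hnat
      have h1 := ConcreteCategory.congr_hom hnat ((homologyMap (coneδ (f • 𝟙 K)) n).hom z)
      have h2 : (homologyMap (-((f • 𝟙 K)⟦(1 : ℤ)⟧')) n).hom ((homologyMap (coneδ (f • 𝟙 K)) n).hom z) = 0 :=
        ConcreteCategory.congr_hom hc z
      have h3 : (homologyMap (-(f • 𝟙 K)) (n + 1)).hom ((dl f K n).hom z) = 0 := by
        refine h1.symm.trans ((congrArg _ h2).trans ?_)
        exact LinearMap.map_zero (shiftHomologyIso K 1 n (n + 1) (by omega)).hom.hom
      rw [homologyMap_neg] at h3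
      exact neg_eq_zero.1 h3
    obtain ⟨y, hy⟩ := (ShortComplex.moduleCat_exact_iff _).1 (exact_δ (f • 𝟙 K) n) z hδ
    obtain ⟨y', hy'⟩ := hs y
    rw [← hy]
    show (homologyMap (mappingCone.inr (f • 𝟙 K)) n).hom y = 0
    rw [← show f • y' = y from hy', ← homologyMap_smul_id_apply]
    exact ConcreteCategory.congr_hom (homologyMap_comp_inr (f • 𝟙 K) n) y'
  exact ModuleCat.isZero_of_subsingleton _

/-- The lowest cohomology keeps an element killed by everything that kills a given one. -/
theorem exists_ne_zero (C : DRing.Cx R) (q : ℤ) (hC : ∀ n < q, IsZero (C.homology n)) (x : C.homology q)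
    (hx : x ≠ 0) : ∀ l : List R, (∀ f ∈ l, f • x = 0) →
      (∀ n, n < q - l.length → IsZero ((Kz l C).homology n)) ∧
      ∀ n, n = q - l.length → ∃ y : (Kz l C).homology n, y ≠ 0 ∧ ∀ g : R, g • x = 0 → g • y = 0
  | [], _ => ⟨fun n hn => hC n (by simpa using hn), fun n hn => by
      obtain rfl : n = q := by simpa using hn
      exact ⟨x, hx, fun g hg => hg⟩⟩
  | f :: l, hkill => by
    obtain ⟨hz, he⟩ := exists_ne_zero C q hC x hx l fun g hg => hkill g (List.mem_cons_of_mem _ hg)
    refine ⟨fun n hn => ?_, fun n hn => ?_⟩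
    · simp only [List.length_cons, Nat.cast_add, Nat.cast_one] at hn
      exact isZero_cone f _ n (hz n (by omega)) (hz (n + 1) (by omega))
    · simp only [List.length_cons, Nat.cast_add, Nat.cast_one] at hn
      obtain ⟨y, hy0, hy⟩ := he (n + 1) (by omega)
      obtain ⟨z, hz'⟩ := exists_dl_eq f (Kz l C) n y (hy f (hkill f List.mem_cons_self))
      refine ⟨z, fun h0 => hy0 (hz'.symm.trans ((congrArg (dl f (Kz l C) n).hom h0).trans
        (LinearMap.map_zero (dl f (Kz l C) n).hom))), fun g hg => ?_⟩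
      refine dl_injective f _ n (hz n (by omega)) ?_
      refine (LinearMap.map_smul (dl f (Kz l C) n).hom g z).trans ?_
      rw [hz']
      exact (hy g hg).trans (LinearMap.map_zero (dl f (Kz l C) n).hom).symm

theorem isIso_smul_kz (f : R) (C : DRing.Cx R) (h : IsIso (f • 𝟙 C)) : ∀ l : List R, IsIso (f • 𝟙 (Kz l C))
  | [] => h
  | g :: l => by
    haveI := isIso_smul_kz f C h l
    let b := inv (f • 𝟙 (Kz l C))
    have hb : f • b = 𝟙 (Kz l C) := by
      rw [show f • b = (f • 𝟙 (Kz l C)) ≫ b by rw [Linear.smul_comp, Category.id_comp]]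
      exact IsIso.hom_inv_id _
    let B := mappingCone.map (g • 𝟙 _) (g • 𝟙 _) b b (smul_comm_hom g b)
    have h1 : f • B = 𝟙 _ := by
      rw [← mappingCone.map_id]
      refine HomologicalComplex.hom_ext _ _ fun n => ?_
      have h2 : ∀ k, f • b.f k = 𝟙 _ := fun k => congrArg (fun t : Kz l C ⟶ Kz l C => t.f k) hb
      simp [B, mappingCone.ext_from_iff _ (n + 1) n rfl, mappingCone.map, Linear.comp_smul,
        ← Linear.smul_comp, h2]
    refine ⟨B, ?_, ?_⟩
    · exact (Linear.smul_comp _ _ _ f (𝟙 _) B).trans ((congrArg (f • ·) (Category.id_comp B)).trans h1)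
    · exact (Linear.comp_smul _ _ _ B f (𝟙 _)).trans ((congrArg (f • ·) (Category.comp_id B)).trans h1)

theorem isZero_kz_of_unit (f : R) (C : DRing.Cx R) (h : IsIso (f • 𝟙 C)) :
    ∀ l : List R, f ∈ l → ∀ n, IsZero ((Kz l C).homology n)
  | [], hf => by simp at hf
  | g :: l, hf => fun n => by
    by_cases hfl : f ∈ l
    · exact isZero_cone g _ n (isZero_kz_of_unit f C h l hfl n) (isZero_kz_of_unit f C h l hfl (n + 1))
    · rcases List.mem_cons.1 hf with rfl | hf'
      · have hb : ∀ m, Function.Bijective fun y : (Kz l C).homology m => f • y := fun m => by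
          haveI := isIso_smul_kz f C h l
          haveI : IsIso (homologyMap (f • 𝟙 (Kz l C)) m) :=
            inferInstanceAs (IsIso ((HomologicalComplex.homologyFunctor _ _ m).map (f • 𝟙 (Kz l C))))
          have := ConcreteCategory.bijective_of_isIso (homologyMap (f • 𝟙 (Kz l C)) m)
          rwa [show (fun y : (Kz l C).homology m => f • y) = (homologyMap (f • 𝟙 (Kz l C)) m).hom from
            funext fun y => (homologyMap_smul_id_apply f _ m y).symm]
        exact isZero_cone_of_bijective f _ n (hb n).2 (hb (n + 1)).1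
      · exact absurd hf' hfl

theorem kz_single (l : List R) :
    Kz l ((CochainComplex.singleFunctor (ModuleCat.{u} R) 0).obj (ModuleCat.of R R)) = Koszul.koszul R l := by
  induction l with
  | nil => rfl
  | cons f l ih =>
    have h : ∀ K K' : DRing.Cx R, K = K' → mappingCone (f • 𝟙 K) = mappingCone (f • 𝟙 K') := by
      rintro K _ rfl; rfl
    exact h _ _ ih

end KoszCechLib
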