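import Groth.Agent.KoszCechLib.Kz
import Groth.Agent.S9264
import Groth.Agent.S9265
import Groth.Prelude.Def_LCI2

/-! # The extended Čech complex of a Koszul regular sequence -/

set_option autoImplicit false
set_option maxHeartbeats 1000000

universe u

open CategoryTheory CategoryTheory.Limits CochainComplex LocCohLib HomologicalComplex

noncomputable section

namespace KoszCechLib

variable {R : Type u} [CommRing R]

theorem isIso_smul_locCx (f : R) (S : Submonoid R) (hf : f ∈ S) (C : DRing.Cx R) :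
    IsIso (f • 𝟙 ((DerCA.locCx S).obj C)) := by
  haveI : ∀ n, IsIso ((f • 𝟙 ((DerCA.locCx S).obj C) : _ ⟶ (DerCA.locCx S).obj C).f n) := fun n => by
    show IsIso (f • 𝟙 ((DerCA.locFunctor S).obj (C.X n)))
    refine (ConcreteCategory.isIso_iff_bijective _).2 ?_
    exact (Module.End.isUnit_iff _).1 (IsLocalizedModule.map_units (LocalizedModule.mkLinearMap S (C.X n)) ⟨f, hf⟩)
  exact HomologicalComplex.Hom.isIso_of_components _

/-- The short exact sequence `L → cone → K⟦1⟧`. -/
theorem shortExact_inr {K L : DRing.Cx R} (φ : K ⟶ L) :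
    ∃ w : mappingCone.inr φ ≫ (mappingCone.triangle φ).mor₃ = 0,
      (ShortComplex.mk (mappingCone.inr φ) (mappingCone.triangle φ).mor₃ w).ShortExact := by
  have w : mappingCone.inr φ ≫ (mappingCone.triangle φ).mor₃ = 0 := mappingCone.inr_triangleδ φ
  refine ⟨w, HomologicalComplex.shortExact_of_degreewise_shortExact _ fun n => ?_⟩
  have e : ∀ z : (mappingCone φ).X n, ((mappingCone.triangle φ).mor₃.f n).hom z =
      -((K.shiftFunctorObjXIso 1 n (n + 1) rfl).inv.hom (((mappingCone.fst φ).1.v n (n + 1) rfl).hom z)) := fun z => by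
    have h : (mappingCone.triangle φ).mor₃.f n =
        -((mappingCone.fst φ).1.v n (n + 1) rfl ≫ (K.shiftFunctorObjXIso 1 n (n + 1) rfl).inv) := by
      simp [mappingCone.triangle, HomComplex.Cochain.rightShift_v _ 1 0 _ n n _ (n + 1) rfl]
      rfl
    rw [h]; rfl
  have hid : ∀ z : (mappingCone φ).X n,
      ((mappingCone.inl φ).v (n + 1) n (by omega)).hom (((mappingCone.fst φ).1.v n (n + 1) rfl).hom z) +
        ((mappingCone.inr φ).f n).hom (((mappingCone.snd φ).v n n (add_zero n)).hom z) = z := fun z =>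
    ConcreteCategory.congr_hom (mappingCone.id_X φ n (n + 1) rfl) z
  refine
    { exact := (ShortComplex.moduleCat_exact_iff _).2 fun z hz => ?_
      mono_f := (ModuleCat.mono_iff_injective _).2 fun x y hxy => ?_
      epi_g := (ModuleCat.epi_iff_surjective _).2 fun y => ?_ }
  · have h0 : ((mappingCone.fst φ).1.v n (n + 1) rfl).hom z = 0 := by
      refine (K.shiftFunctorObjXIso 1 n (n + 1) rfl).toLinearEquiv.symm.injective ?_
      refine Eq.trans ?_ (LinearEquiv.map_zero _).symm
      exact neg_eq_zero.1 ((e z).symm.trans hz)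
    refine ⟨((mappingCone.snd φ).v n n (add_zero n)).hom z, ?_⟩
    refine Eq.trans ?_ (hid z)
    rw [h0, map_zero, zero_add]
    rfl
  · have h := congrArg (fun t => ((mappingCone.snd φ).v n n (add_zero n)).hom t) hxy
    have h' : ∀ t, ((mappingCone.snd φ).v n n (add_zero n)).hom (((mappingCone.inr φ).f n).hom t) = t :=
      fun t => ConcreteCategory.congr_hom (mappingCone.inr_f_snd_v φ n) t
    exact (h' x).symm.trans (h.trans (h' y))
  · refine ⟨((mappingCone.inl φ).v (n + 1) n (by omega)).hom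
      (-((K.shiftFunctorObjXIso 1 n (n + 1) rfl).hom.hom y)), (e _).trans ?_⟩
    have h' : ∀ t, ((mappingCone.fst φ).1.v n (n + 1) rfl).hom
        (((mappingCone.inl φ).v (n + 1) n (by omega)).hom t) = t :=
      fun t => ConcreteCategory.congr_hom (mappingCone.inl_v_fst_v φ (n + 1) n rfl) t
    rw [h', map_neg, neg_neg]
    exact ConcreteCategory.congr_hom (K.shiftFunctorObjXIso 1 n (n + 1) rfl).hom_inv_id y

theorem isZero_kz_cech (fs : List R) (hfs : LCI.IsKoszulRegularSeq R fs) :
    ∀ ls : List R, (∀ g ∈ ls, g ∈ fs) → ∀ m : ℤ, m ≠ 0 →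
      IsZero ((Kz fs (DerCA.extCech (ModuleCat.of R R) ls)).homology m)
  | [], _, m, hm => by
    have h := hfs m hm
    have key : ∀ K K' : DRing.Cx R, K = K' → IsZero (K.homology m) → IsZero (K'.homology m) := by
      rintro K _ rfl hK; exact hK
    exact key _ _ (kz_single fs).symm h
  | g :: ls, hsub, m, hm => by
    let C := DerCA.extCech (ModuleCat.of R R) ls
    let S := Submonoid.powers g
    let φ := DerCA.locCxUnit S C
    obtain ⟨w, hS⟩ := shortExact_inr φ
    have hS' := hS.map_of_exact (CategoryTheory.shiftFunctor (DRing.Cx R) (-1 : ℤ))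
    obtain ⟨w', hK⟩ := shortExact_kz hS' fs
    refine (hK.homology_exact₂ m).isZero_of_both_zeros ?_ ?_
    · refine IsZero.eq_of_src ?_ _ _
      show IsZero ((Kz fs (((DerCA.locCx S).obj C)⟦(-1 : ℤ)⟧)).homology m)
      refine isZero_kz_of_unit g (((DerCA.locCx S).obj C)⟦(-1 : ℤ)⟧) ?_ fs (hsub g List.mem_cons_self) m
      have h := isIso_smul_locCx g S (Submonoid.mem_powers g) C
      haveI : ∀ n, IsIso ((g • 𝟙 (((DerCA.locCx S).obj C)⟦(-1 : ℤ)⟧) : _ ⟶ ((DerCA.locCx S).obj C)⟦(-1 : ℤ)⟧).f n) :=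
        fun n => by
          show IsIso ((g • 𝟙 ((DerCA.locCx S).obj C) : _ ⟶ (DerCA.locCx S).obj C).f (n + -1))
          haveI := h
          infer_instance
      exact HomologicalComplex.Hom.isIso_of_components _
    · refine IsZero.eq_of_tgt ?_ _ _
      exact isZero_kz_of_iso fs (shiftShiftNeg C (1 : ℤ)).symm m
        (isZero_kz_cech fs hfs ls (fun x hx => hsub x (List.mem_cons_of_mem _ hx)) m hm)

theorem exists_killed {H : Type u} [AddCommGroup H] [Module R H] {x : H} (hx : x ≠ 0) : ∀ l : List R,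
    (∀ f ∈ l, ∃ k : ℕ, f ^ k • x = 0) → ∃ c : R, c • x ≠ 0 ∧ ∀ f ∈ l, f • c • x = 0
  | [], _ => ⟨1, by rwa [one_smul], fun f hf => by simp at hf⟩
  | f :: l, h => by
    classical
    obtain ⟨c, hc, hcl⟩ := exists_killed hx l fun g hg => h g (List.mem_cons_of_mem _ hg)
    obtain ⟨k, hk⟩ := h f List.mem_cons_self
    have hex : ∃ k, (f ^ k * c) • x = 0 := ⟨k, by rw [mul_comm, mul_smul, hk, smul_zero]⟩
    obtain ⟨j, hj⟩ : ∃ j, Nat.find hex = j + 1 := Nat.exists_eq_succ_of_ne_zero fun h0 => hc (by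
      have := Nat.find_spec hex
      rwa [h0, pow_zero, one_mul] at this)
    refine ⟨f ^ j * c, Nat.find_min hex (by omega), fun g hg => ?_⟩
    rcases List.mem_cons.1 hg with rfl | hg'
    · rw [← mul_smul, ← mul_assoc, ← pow_succ', ← hj]
      exact Nat.find_spec hex
    · rw [mul_smul, smul_comm, hcl g hg', smul_zero]

theorem main (fs : List R) (hfs : LCI.IsKoszulRegularSeq R fs) (q : ℤ) (hq : q ≠ (fs.length : ℤ)) :
    IsZero (DerCA.extCechH fs (ModuleCat.of R R) q) := by
  suffices h : ∀ k : ℕ, (k : ℤ) < fs.length → IsZero (DerCA.extCechH fs (ModuleCat.of R R) k) by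
    rcases lt_or_gt_of_ne hq with hlt | hgt
    · rcases lt_or_ge q 0 with h0 | h0
      · exact Groth.Agent.S9264.result R fs _ q (Or.inl h0)
      · obtain ⟨k, rfl⟩ := Int.eq_ofNat_of_zero_le h0
        exact h k hlt
    · exact Groth.Agent.S9264.result R fs _ q (Or.inr hgt)
  intro k
  induction k using Nat.strong_induction_on with
  | _ k ih =>
    intro hk
    by_contra hne
    haveI : Nontrivial (DerCA.extCechH fs (ModuleCat.of R R) k : Type u) := not_subsingleton_iff_nontrivial.1
      fun h => hne (ModuleCat.isZero_of_subsingleton _)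
    obtain ⟨x, hx⟩ := exists_ne (0 : (DerCA.extCechH fs (ModuleCat.of R R) k : Type u))
    obtain ⟨n, hn, hkill⟩ := Groth.Agent.S9265.result R fs (ModuleCat.of R R) k x
    obtain ⟨c, hc, hcl⟩ := exists_killed hx fs fun f hf => ⟨n, hkill f hf⟩
    have hlow : ∀ m < (k : ℤ), IsZero ((DerCA.extCech (ModuleCat.of R R) fs).homology m) := fun m hm => by
      rcases lt_or_ge m 0 with h0 | h0
      · exact Groth.Agent.S9264.result R fs _ m (Or.inl h0)
      · obtain ⟨j, rfl⟩ := Int.eq_ofNat_of_zero_le h0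
        exact ih j (by omega) (by omega)
    obtain ⟨-, he⟩ := exists_ne_zero (DerCA.extCech (ModuleCat.of R R) fs) (k : ℤ) hlow (c • x) hc fs hcl
    obtain ⟨y, hy, -⟩ := he _ rfl
    haveI := ModuleCat.subsingleton_of_isZero (isZero_kz_cech fs hfs fs (fun _ h => h) ((k : ℤ) - fs.length) (by omega))
    exact hy (Subsingleton.elim _ _)

end KoszCechLib
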